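import Mathlib

set_option autoImplicit false

/-!
The centraliser in `SL₂(q)`, `q` odd, of an element without eigenvalues in the field: it is
commutative of order `q + 1`.
-/

namespace Cfsg.Agent.Lib.Helper5.PSL2Cent

open Matrix

section general

variable {F : Type*} [Field F]

/-- matrices commuting with a non-scalar `2 × 2` matrix are polynomials in it -/
theorem exists_eq_smul_add (M Y : Matrix (Fin 2) (Fin 2) F)
    (hM : ¬ (M 0 1 = 0 ∧ M 1 0 = 0 ∧ M 0 0 = M 1 1))
    (hc : Y * M = M * Y) : ∃ α β : F, Y = α • (1 : Matrix (Fin 2) (Fin 2) F) + β • M := by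
  have e00 := congrFun (congrFun hc 0) 0
  have e01 := congrFun (congrFun hc 0) 1
  have e10 := congrFun (congrFun hc 1) 0
  simp only [Matrix.mul_apply, Fin.sum_univ_two] at e00 e01 e10
  have key : ∀ β : F, Y 0 1 = β * M 0 1 → Y 1 0 = β * M 1 0 →
      Y 0 0 - Y 1 1 = β * (M 0 0 - M 1 1) →
      Y = (Y 0 0 - β * M 0 0) • (1 : Matrix (Fin 2) (Fin 2) F) + β • M := by
    intro β h1 h2 h3
    ext i j
    fin_cases i <;> fin_cases j
    · simp
    · simp [h1]
    · simp [h2]
    · simp only [Fin.mk_one, Fin.isValue, Matrix.add_apply, Matrix.smul_apply, Matrix.one_apply_eq, smul_eq_mul, mul_one]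
      linear_combination -h3
  by_cases hb : M 0 1 = 0
  · by_cases hc' : M 1 0 = 0
    · have had : M 0 0 - M 1 1 ≠ 0 := by
        intro h
        exact hM ⟨hb, hc', sub_eq_zero.1 h⟩
      refine ⟨_, (Y 0 0 - Y 1 1) / (M 0 0 - M 1 1), key _ ?_ ?_ ?_⟩
      · rw [hb, mul_zero]
        have : Y 0 1 * (M 0 0 - M 1 1) = 0 := by
          rw [hb] at e01
          linear_combination -e01
        rcases mul_eq_zero.1 this with h | h
        · exact h
        · exact absurd h had
      · rw [hc', mul_zero]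
        have : Y 1 0 * (M 0 0 - M 1 1) = 0 := by
          rw [hc'] at e10
          linear_combination e10
        rcases mul_eq_zero.1 this with h | h
        · exact h
        · exact absurd h had
      · field_simp
    · refine ⟨_, Y 1 0 / M 1 0, key _ ?_ ?_ ?_⟩
      · field_simp
        linear_combination e00
      · field_simp
      · field_simp
        linear_combination -e10
  · refine ⟨_, Y 0 1 / M 0 1, key _ ?_ ?_ ?_⟩
    · field_simp
    · field_simp
      linear_combination -e00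
    · field_simp
      linear_combination e01

theorem det_smul_add (S : Matrix (Fin 2) (Fin 2) F) (hS : S.det = 1) (x y : F) :
    (x • (1 : Matrix (Fin 2) (Fin 2) F) + y • S).det = x ^ 2 + S.trace * x * y + y ^ 2 := by
  rw [Matrix.det_fin_two] at hS ⊢
  rw [Matrix.trace_fin_two]
  simp only [Matrix.add_apply, Matrix.smul_apply, Matrix.one_apply_eq, smul_eq_mul, mul_one, ne_eq, zero_ne_one,
    not_false_eq_true, Matrix.one_apply_ne, mul_zero, zero_add, one_ne_zero]
  linear_combination y ^ 2 * hS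

/-- the norm form is anisotropic if there is no eigenvalue -/
theorem norm_ne_zero (τ : F) (hno : ∀ a : F, a * (τ - a) ≠ 1) (x y : F) (hxy : ¬ (x = 0 ∧ y = 0)) :
    x ^ 2 + τ * x * y + y ^ 2 ≠ 0 := by
  intro h
  by_cases hy : y = 0
  · subst hy
    have : x = 0 := by
      have : x ^ 2 = 0 := by linear_combination h
      exact pow_eq_zero_iff (two_ne_zero) |>.1 this
    exact hxy ⟨this, rfl⟩
  · apply hno (-x / y)
    field_simp
    linear_combination -h

theorem not_scalar_of_no_root (S : Matrix (Fin 2) (Fin 2) F) (hS : S.det = 1)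
    (hno : ∀ a : F, a * (S.trace - a) ≠ 1) : ¬ (S 0 1 = 0 ∧ S 1 0 = 0 ∧ S 0 0 = S 1 1) := by
  rintro ⟨h1, h2, h3⟩
  apply hno (S 0 0)
  rw [Matrix.det_fin_two, h1, h2, ← h3] at hS
  rw [Matrix.trace_fin_two, ← h3]
  linear_combination hS

theorem smul_add_injective (S : Matrix (Fin 2) (Fin 2) F)
    (hS : ¬ (S 0 1 = 0 ∧ S 1 0 = 0 ∧ S 0 0 = S 1 1)) (x y x' y' : F)
    (h : x • (1 : Matrix (Fin 2) (Fin 2) F) + y • S = x' • (1 : Matrix (Fin 2) (Fin 2) F) + y' • S) :
    x = x' ∧ y = y' := by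
  have e00 := congrFun (congrFun h 0) 0
  have e01 := congrFun (congrFun h 0) 1
  have e10 := congrFun (congrFun h 1) 0
  have e11 := congrFun (congrFun h 1) 1
  simp only [Matrix.add_apply, Matrix.smul_apply, Matrix.one_apply_eq, smul_eq_mul, mul_one, ne_eq, zero_ne_one,
    not_false_eq_true, Matrix.one_apply_ne, mul_zero, zero_add, one_ne_zero] at e00 e01 e10 e11
  have hy : y = y' := by
    by_cases hb : S 0 1 = 0
    · by_cases hc : S 1 0 = 0
      · have had : S 0 0 - S 1 1 ≠ 0 := fun h => hS ⟨hb, hc, sub_eq_zero.1 h⟩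
        have : (y - y') * (S 0 0 - S 1 1) = 0 := by linear_combination e00 - e11
        rcases mul_eq_zero.1 this with h | h
        · exact sub_eq_zero.1 h
        · exact absurd h had
      · exact mul_right_cancel₀ hc e10
    · exact mul_right_cancel₀ hb e01
  refine ⟨?_, hy⟩
  rw [hy] at e00
  exact add_right_cancel e00

end general

section counting

/-- a counting lemma: a subgroup mapping onto `H` -/
theorem card_eq_card_inf_ker_mul {G H : Type*} [Group G] [Group H] (f : G →* H) (Z : Subgroup G)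
    (hsurj : ∀ h : H, ∃ z ∈ Z, f z = h) :
    Nat.card Z = Nat.card ↥(Z ⊓ f.ker) * Nat.card H := by
  have hφ : Function.Surjective (f.domRestrict Z) := fun h => by
    obtain ⟨z, hz, rfl⟩ := hsurj h
    exact ⟨⟨z, hz⟩, rfl⟩
  have e1 := Subgroup.card_eq_card_quotient_mul_card_subgroup (f.domRestrict Z).ker
  have e2 : Nat.card (↥Z ⧸ (f.domRestrict Z).ker) = Nat.card H :=
    Nat.card_congr (QuotientGroup.quotientKerEquivOfSurjective _ hφ).toEquiv
  have e3 : Nat.card (f.domRestrict Z).ker = Nat.card ↥(Z ⊓ f.ker) := by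
    rw [MonoidHom.ker_domRestrict, ← Subgroup.inf_subgroupOf_right, inf_comm]
    exact Nat.card_congr (Subgroup.subgroupOfEquivOfLe inf_le_left).toEquiv
  rw [e1, e2, e3, mul_comm]

end counting

section finite

variable {F : Type*} [Field F] [Fintype F]

theorem card_pairs_ne_zero : Nat.card {p : F × F // ¬ (p.1 = 0 ∧ p.2 = 0)} =
    Fintype.card F ^ 2 - 1 := by
  classical
  rw [Nat.card_eq_fintype_card, Fintype.card_subtype_compl, Fintype.card_prod]
  have : Fintype.card {p : F × F // p.1 = 0 ∧ p.2 = 0} = 1 := by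
    rw [Fintype.card_eq_one_iff]
    refine ⟨⟨(0, 0), rfl, rfl⟩, ?_⟩
    rintro ⟨⟨a, b⟩, ha, hb⟩
    simp only at ha hb
    subst ha hb
    rfl
  rw [this, pow_two]

variable (s : Matrix.SpecialLinearGroup (Fin 2) F)
  (hno : ∀ a : F, a * ((s : Matrix (Fin 2) (Fin 2) F).trace - a) ≠ 1)

omit [Fintype F] in
theorem mem_centralizer_toGL (g : GL (Fin 2) F) :
    g ∈ Subgroup.centralizer {Matrix.SpecialLinearGroup.toGL s} ↔
      (g : Matrix (Fin 2) (Fin 2) F) * (s : Matrix (Fin 2) (Fin 2) F) =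
        (s : Matrix (Fin 2) (Fin 2) F) * (g : Matrix (Fin 2) (Fin 2) F) := by
  rw [Subgroup.mem_centralizer_singleton_iff]
  constructor
  · intro h
    have := congrArg (fun x : GL (Fin 2) F => (x : Matrix (Fin 2) (Fin 2) F)) h
    exact this
  · intro h
    apply Units.ext
    exact h

include hno in
theorem card_centralizer_GL :
    Nat.card ↥(Subgroup.centralizer {Matrix.SpecialLinearGroup.toGL s}) =
      Fintype.card F ^ 2 - 1 := by
  rw [← card_pairs_ne_zero]
  symm
  have hdet : ∀ p : {p : F × F // ¬ (p.1 = 0 ∧ p.2 = 0)},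
      (p.1.1 • (1 : Matrix (Fin 2) (Fin 2) F) + p.1.2 • (s : Matrix (Fin 2) (Fin 2) F)).det ≠ 0 := by
    intro p
    rw [det_smul_add _ s.2]
    exact norm_ne_zero _ hno _ _ p.2
  have hmem : ∀ p : {p : F × F // ¬ (p.1 = 0 ∧ p.2 = 0)},
      GeneralLinearGroup.mkOfDetNeZero _ (hdet p) ∈
        Subgroup.centralizer {Matrix.SpecialLinearGroup.toGL s} := by
    intro p
    rw [mem_centralizer_toGL]
    show (p.1.1 • (1 : Matrix (Fin 2) (Fin 2) F) + p.1.2 • (s : Matrix (Fin 2) (Fin 2) F)) * _ =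
      _ * (p.1.1 • (1 : Matrix (Fin 2) (Fin 2) F) + p.1.2 • (s : Matrix (Fin 2) (Fin 2) F))
    rw [Matrix.add_mul, Matrix.mul_add, Matrix.smul_mul, Matrix.mul_smul, Matrix.smul_mul,
      Matrix.mul_smul, Matrix.one_mul, Matrix.mul_one]
  apply Nat.card_congr
  refine Equiv.ofBijective (fun p => ⟨GeneralLinearGroup.mkOfDetNeZero _ (hdet p), hmem p⟩) ⟨?_, ?_⟩
  · intro p p' h
    have h1 := congrArg (fun x : ↥(Subgroup.centralizer {Matrix.SpecialLinearGroup.toGL s}) =>
      ((x : GL (Fin 2) F) : Matrix (Fin 2) (Fin 2) F)) h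
    have h2 : p.1.1 • (1 : Matrix (Fin 2) (Fin 2) F) + p.1.2 • (s : Matrix (Fin 2) (Fin 2) F) =
        p'.1.1 • (1 : Matrix (Fin 2) (Fin 2) F) + p'.1.2 • (s : Matrix (Fin 2) (Fin 2) F) := h1
    obtain ⟨e1, e2⟩ := smul_add_injective _ (not_scalar_of_no_root _ s.2 hno) _ _ _ _ h2
    exact Subtype.ext (Prod.ext e1 e2)
  · rintro ⟨g, hg⟩
    rw [mem_centralizer_toGL] at hg
    obtain ⟨α, β, hαβ⟩ := exists_eq_smul_add _ _ (not_scalar_of_no_root _ s.2 hno) hg
    have hne : ¬ (α = 0 ∧ β = 0) := by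
      rintro ⟨rfl, rfl⟩
      rw [zero_smul, zero_smul, add_zero] at hαβ
      have h1 : (g : Matrix (Fin 2) (Fin 2) F) * ((g⁻¹ : GL (Fin 2) F) : Matrix (Fin 2) (Fin 2) F) = 1 := by
        rw [← Matrix.GeneralLinearGroup.coe_mul, mul_inv_cancel]
        rfl
      rw [hαβ, Matrix.zero_mul] at h1
      have h2 := congrFun (congrFun h1 0) 0
      simp at h2
    refine ⟨⟨(α, β), hne⟩, ?_⟩
    apply Subtype.ext
    apply Units.ext
    exact hαβ.symm

omit [Fintype F] in
theorem mk_mem_centralizer (x y : F)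
    (h : (x • (1 : Matrix (Fin 2) (Fin 2) F) + y • (s : Matrix (Fin 2) (Fin 2) F)).det ≠ 0) :
    GeneralLinearGroup.mkOfDetNeZero _ h ∈
      Subgroup.centralizer {Matrix.SpecialLinearGroup.toGL s} := by
  rw [mem_centralizer_toGL]
  show (x • (1 : Matrix (Fin 2) (Fin 2) F) + y • (s : Matrix (Fin 2) (Fin 2) F)) * _ =
    _ * (x • (1 : Matrix (Fin 2) (Fin 2) F) + y • (s : Matrix (Fin 2) (Fin 2) F))
  rw [Matrix.add_mul, Matrix.mul_add, Matrix.smul_mul, Matrix.mul_smul, Matrix.smul_mul,
    Matrix.mul_smul, Matrix.one_mul, Matrix.mul_one]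

theorem two_ne_zero_of_card (hodd : Fintype.card F % 2 = 1) : (2 : F) ≠ 0 := by
  apply Ring.two_ne_zero
  intro h
  have := FiniteField.even_card_iff_char_two.1 h
  omega

/-- the norm form represents every element -/
theorem exists_norm_eq (hodd : Fintype.card F % 2 = 1) (τ : F) (hτ : τ ^ 2 ≠ 4) (c : F) :
    ∃ x y : F, x ^ 2 + τ * x * y + y ^ 2 = c := by
  have h2 := two_ne_zero_of_card hodd
  have hδ : 1 - τ ^ 2 / 4 ≠ 0 := by
    intro h
    apply hτ
    have h4 : (4 : F) ≠ 0 := by
      have : (4 : F) = 2 * 2 := by norm_num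
      rw [this]
      exact mul_ne_zero h2 h2
    field_simp at h
    linear_combination -h
  have hf : (Polynomial.X ^ 2 : Polynomial F).degree = 2 := Polynomial.degree_X_pow 2
  have hg : (Polynomial.C (1 - τ ^ 2 / 4) * Polynomial.X ^ 2 + Polynomial.C 0 * Polynomial.X +
      Polynomial.C (-c) : Polynomial F).degree = 2 := Polynomial.degree_quadratic hδ
  obtain ⟨a, b, hab⟩ := FiniteField.exists_root_sum_quadratic hf hg hodd
  simp only [Polynomial.eval_pow, Polynomial.eval_X, Polynomial.eval_add, Polynomial.eval_mul,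
    Polynomial.eval_C] at hab
  refine ⟨a - τ * b / 2, b, ?_⟩
  have h4 : (4 : F) ≠ 0 := by
    have : (4 : F) = 2 * 2 := by norm_num
    rw [this]
    exact mul_ne_zero h2 h2
  field_simp
  field_simp at hab
  linear_combination hab

include hno in
theorem trace_sq_ne_four (hodd : Fintype.card F % 2 = 1) :
    (s : Matrix (Fin 2) (Fin 2) F).trace ^ 2 ≠ 4 := by
  have h2 := two_ne_zero_of_card hodd
  intro h
  apply hno ((s : Matrix (Fin 2) (Fin 2) F).trace / 2)
  field_simp
  linear_combination h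

include hno in
/-- the centraliser of an element of `SL₂(q)` without eigenvalues has order `q + 1` -/
theorem card_centralizer_SL (hodd : Fintype.card F % 2 = 1) :
    Nat.card ↥(Subgroup.centralizer {s}) = Fintype.card F + 1 := by
  have hsurj : ∀ c : Fˣ, ∃ z ∈ Subgroup.centralizer {Matrix.SpecialLinearGroup.toGL s},
      GeneralLinearGroup.det z = c := by
    intro c
    obtain ⟨x, y, hxy⟩ := exists_norm_eq hodd _ (trace_sq_ne_four s hno hodd) (c : F)
    have hd : (x • (1 : Matrix (Fin 2) (Fin 2) F) + y • (s : Matrix (Fin 2) (Fin 2) F)).det ≠ 0 := by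
      rw [det_smul_add _ s.2, hxy]
      exact c.ne_zero
    refine ⟨_, mk_mem_centralizer s x y hd, ?_⟩
    apply Units.ext
    rw [GeneralLinearGroup.val_det_apply]
    show (x • (1 : Matrix (Fin 2) (Fin 2) F) + y • (s : Matrix (Fin 2) (Fin 2) F)).det = c
    rw [det_smul_add _ s.2, hxy]
  have h1 := card_eq_card_inf_ker_mul GeneralLinearGroup.det _ hsurj
  have h2 : Subgroup.centralizer {Matrix.SpecialLinearGroup.toGL s} ⊓
      (GeneralLinearGroup.det (n := Fin 2) (R := F)).ker =
      (Subgroup.centralizer {s}).map Matrix.SpecialLinearGroup.toGL := by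
    ext g
    rw [Subgroup.mem_inf, Subgroup.mem_map, MonoidHom.mem_ker]
    constructor
    · rintro ⟨hg1, hg2⟩
      have hdet : (g : Matrix (Fin 2) (Fin 2) F).det = 1 := by
        rw [← GeneralLinearGroup.val_det_apply, hg2]
        rfl
      obtain ⟨c, hc⟩ : ∃ c : Matrix.SpecialLinearGroup (Fin 2) F,
          (c : Matrix (Fin 2) (Fin 2) F) = (g : Matrix (Fin 2) (Fin 2) F) := ⟨⟨_, hdet⟩, rfl⟩
      refine ⟨c, ?_, ?_⟩
      · rw [Subgroup.mem_centralizer_singleton_iff]
        apply Subtype.ext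
        show (c : Matrix (Fin 2) (Fin 2) F) * (s : Matrix (Fin 2) (Fin 2) F) =
          (s : Matrix (Fin 2) (Fin 2) F) * (c : Matrix (Fin 2) (Fin 2) F)
        rw [hc]
        exact (mem_centralizer_toGL s g).1 hg1
      · apply Units.ext
        exact hc
    · rintro ⟨c, hc, rfl⟩
      constructor
      · rw [Subgroup.mem_centralizer_singleton_iff] at hc ⊢
        rw [← map_mul, ← map_mul, hc]
      · apply Units.ext
        rw [GeneralLinearGroup.val_det_apply]
        exact c.2
  rw [h2, Subgroup.card_map_of_injective Matrix.SpecialLinearGroup.toGL_injective,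
    card_centralizer_GL s hno, Nat.card_units, Nat.card_eq_fintype_card (α := F)] at h1
  have hq : 1 < Fintype.card F := Fintype.one_lt_card
  obtain ⟨k, hk⟩ : ∃ k, Fintype.card F = k + 2 := ⟨Fintype.card F - 2, by omega⟩
  rw [hk] at h1 ⊢
  have e1 : (k + 2) ^ 2 - 1 = (k + 3) * (k + 1) := by
    have : (k + 2) ^ 2 = (k + 3) * (k + 1) + 1 := by ring
    rw [this]
    omega
  have e2 : k + 2 - 1 = k + 1 := by omega
  rw [e1, e2] at h1
  exact (Nat.eq_of_mul_eq_mul_right (Nat.succ_pos k) h1).symm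

omit [Fintype F] in
include hno in
/-- the centraliser of an element of `SL₂` without eigenvalues is commutative -/
theorem centralizer_SL_comm (x x' : Matrix.SpecialLinearGroup (Fin 2) F)
    (hx : x ∈ Subgroup.centralizer {s}) (hx' : x' ∈ Subgroup.centralizer {s}) :
    x * x' = x' * x := by
  rw [Subgroup.mem_centralizer_singleton_iff] at hx hx'
  have h1 : (x : Matrix (Fin 2) (Fin 2) F) * (s : Matrix (Fin 2) (Fin 2) F) =
      (s : Matrix (Fin 2) (Fin 2) F) * (x : Matrix (Fin 2) (Fin 2) F) :=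
    congrArg Subtype.val hx
  have h2 : (x' : Matrix (Fin 2) (Fin 2) F) * (s : Matrix (Fin 2) (Fin 2) F) =
      (s : Matrix (Fin 2) (Fin 2) F) * (x' : Matrix (Fin 2) (Fin 2) F) :=
    congrArg Subtype.val hx'
  obtain ⟨α, β, h3⟩ := exists_eq_smul_add _ _ (not_scalar_of_no_root _ s.2 hno) h1
  obtain ⟨α', β', h4⟩ := exists_eq_smul_add _ _ (not_scalar_of_no_root _ s.2 hno) h2
  apply Subtype.ext
  show (x : Matrix (Fin 2) (Fin 2) F) * (x' : Matrix (Fin 2) (Fin 2) F) =
    (x' : Matrix (Fin 2) (Fin 2) F) * (x : Matrix (Fin 2) (Fin 2) F)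
  rw [h3, h4]
  simp only [Matrix.add_mul, Matrix.mul_add, Matrix.smul_mul, Matrix.mul_smul, Matrix.one_mul,
    Matrix.mul_one, smul_add, smul_smul]
  module

end finite

end Cfsg.Agent.Lib.Helper5.PSL2Cent
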