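import Mathlib
import Cfsg.Agent.Lib.Helper4.SLCenter
import Cfsg.Agent.Lib.Helper5.PSL2Cent.SLCent

set_option autoImplicit false

/-!
The centraliser in `PSL₂(q)`, `q` odd, of an element of odd prime order not dividing `q (q - 1)`:
it is commutative of order `(q + 1) / 2`.
-/

namespace Cfsg.Agent.Lib.Helper5.PSL2Cent

open Matrix

section general

variable {F : Type*} [Field F]

/-- Cayley-Hamilton for `2 × 2` matrices of determinant one, in factored form -/
theorem sub_mul_sub_eq_zero (S : Matrix (Fin 2) (Fin 2) F) (hS : S.det = 1) (a : F)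
    (ha : a * (S.trace - a) = 1) :
    (S - a • (1 : Matrix (Fin 2) (Fin 2) F)) * (S - (S.trace - a) • (1 : Matrix (Fin 2) (Fin 2) F))
      = 0 := by
  rw [Matrix.det_fin_two] at hS
  rw [Matrix.trace_fin_two] at ha ⊢
  ext i j
  fin_cases i <;> fin_cases j <;>
    simp only [Matrix.mul_apply, Fin.sum_univ_two, Matrix.sub_apply, Matrix.smul_apply,
      Matrix.one_apply_eq, Matrix.one_apply_ne, smul_eq_mul, mul_one, mul_zero, sub_zero,
      Matrix.zero_apply, Fin.zero_eta, Fin.mk_one, Fin.isValue, ne_eq, zero_ne_one, one_ne_zero,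
      not_false_eq_true]
  · linear_combination ha - hS
  · ring
  · ring
  · linear_combination ha - hS

theorem pow_mul_eq_smul (S N : Matrix (Fin 2) (Fin 2) F) (a : F) (h : S * N = a • N) (k : ℕ) :
    S ^ k * N = a ^ k • N := by
  induction k with
  | zero => simp
  | succ k ih =>
    rw [pow_succ, Matrix.mul_assoc, h, Matrix.mul_smul, ih, smul_smul, pow_succ, mul_comm]

theorem one_add_pow_of_sq_zero (N : Matrix (Fin 2) (Fin 2) F) (hN : N * N = 0) (k : ℕ) :
    (1 + N) ^ k = 1 + (k : F) • N := by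
  induction k with
  | zero => simp
  | succ k ih =>
    rw [pow_succ, ih, Matrix.add_mul, Matrix.mul_add, Matrix.mul_add, Matrix.smul_mul,
      Matrix.smul_mul, hN, smul_zero, add_zero, Matrix.one_mul, Matrix.one_mul, Matrix.mul_one,
      Nat.cast_succ, add_smul, one_smul]
    abel

end general

section finite

variable {F : Type*} [Field F] [Fintype F]

local notation "SL2" => Matrix.SpecialLinearGroup (Fin 2) F
local notation "PSL2" => Matrix.ProjectiveSpecialLinearGroup (Fin 2) F

omit [Fintype F] in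
theorem sq_eq_one_of_mem_center (z : SL2) (hz : z ∈ Subgroup.center SL2) : z ^ 2 = 1 := by
  obtain ⟨r, hr, hrz⟩ := Matrix.SpecialLinearGroup.mem_center_iff.1 hz
  rw [Fintype.card_fin] at hr
  apply Subtype.ext
  rw [Matrix.SpecialLinearGroup.coe_pow, ← hrz, ← map_pow, hr, map_one]
  rfl

omit [Fintype F] in
theorem not_scalar_of_not_mem_center (s : SL2) (hs : s ∉ Subgroup.center SL2) :
    ¬ ((s : Matrix (Fin 2) (Fin 2) F) 0 1 = 0 ∧ (s : Matrix (Fin 2) (Fin 2) F) 1 0 = 0 ∧
      (s : Matrix (Fin 2) (Fin 2) F) 0 0 = (s : Matrix (Fin 2) (Fin 2) F) 1 1) := by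
  rintro ⟨h1, h2, h3⟩
  apply hs
  rw [Matrix.SpecialLinearGroup.mem_center_iff]
  refine ⟨(s : Matrix (Fin 2) (Fin 2) F) 0 0, ?_, ?_⟩
  · have := s.2
    rw [Matrix.det_fin_two, h1, h2, ← h3] at this
    rw [Fintype.card_fin]
    linear_combination this
  · ext i j
    fin_cases i <;> fin_cases j
    · simp
    · simp [h1]
    · simp [h2]
    · simp [h3]

/-- a non-central element of `SL₂(q)` of prime order `p ∤ q (q - 1)` has no eigenvalue -/
theorem no_root_of_pow_eq_one (s : SL2) (hs : s ∉ Subgroup.center SL2) (p : ℕ) (hp : p.Prime)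
    (hpq : ¬ p ∣ Fintype.card F) (hpq1 : ¬ p ∣ Fintype.card F - 1) (hsp : s ^ p = 1) :
    ∀ a : F, a * ((s : Matrix (Fin 2) (Fin 2) F).trace - a) ≠ 1 := by
  intro a ha
  have hns := not_scalar_of_not_mem_center s hs
  obtain ⟨S, hSdef⟩ : ∃ S : Matrix (Fin 2) (Fin 2) F, S = (s : Matrix (Fin 2) (Fin 2) F) := ⟨_, rfl⟩
  rw [← hSdef] at ha hns
  have hSdet : S.det = 1 := by rw [hSdef]; exact s.2
  have hSp : S ^ p = 1 := by
    rw [hSdef, ← Matrix.SpecialLinearGroup.coe_pow, hsp]
    rfl
  -- a general step: a root of the characteristic polynomial is `1`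
  have step : ∀ b : F, b * (S.trace - b) = 1 → b = 1 := by
    intro b hb
    have h0 := sub_mul_sub_eq_zero S hSdet b hb
    have hN : S - (S.trace - b) • (1 : Matrix (Fin 2) (Fin 2) F) ≠ 0 := by
      intro h
      apply hns
      have hS : S = (S.trace - b) • (1 : Matrix (Fin 2) (Fin 2) F) := sub_eq_zero.1 h
      refine ⟨?_, ?_, ?_⟩
      · rw [hS]; simp
      · rw [hS]; simp
      · conv_lhs => rw [hS]
        conv_rhs => rw [hS]
        simp
    have h1 : S * (S - (S.trace - b) • (1 : Matrix (Fin 2) (Fin 2) F)) =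
        b • (S - (S.trace - b) • (1 : Matrix (Fin 2) (Fin 2) F)) := by
      rw [Matrix.sub_mul, Matrix.smul_mul, Matrix.one_mul] at h0
      exact sub_eq_zero.1 h0
    have h2 := pow_mul_eq_smul S _ b h1 p
    rw [hSp, Matrix.one_mul] at h2
    have h3 : (1 - b ^ p) • (S - (S.trace - b) • (1 : Matrix (Fin 2) (Fin 2) F)) = 0 := by
      rw [sub_smul, one_smul, ← h2, sub_self]
    have hbp : b ^ p = 1 := by
      rcases smul_eq_zero.1 h3 with h | h
      · exact (sub_eq_zero.1 h).symm
      · exact absurd h hN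
    have hb0 : b ≠ 0 := by
      rintro rfl
      rw [zero_mul] at hb
      exact zero_ne_one hb
    have hbq : b ^ (Fintype.card F - 1) = 1 := FiniteField.pow_card_sub_one_eq_one b hb0
    have hg : Nat.gcd p (Fintype.card F - 1) = 1 := (Nat.Prime.coprime_iff_not_dvd hp).2 hpq1
    have := pow_gcd_eq_one.2 ⟨hbp, hbq⟩
    rw [hg, pow_one] at this
    exact this
  have ha1 := step a ha
  have ha' : (S.trace - a) * (S.trace - (S.trace - a)) = 1 := by
    rw [sub_sub_cancel, mul_comm]; exact ha
  have ha'1 := step _ ha'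
  have h0 := sub_mul_sub_eq_zero S hSdet a ha
  rw [ha'1, ha1, one_smul] at h0
  have hN : S - 1 ≠ 0 := by
    intro h
    apply hns
    have hS : S = 1 := sub_eq_zero.1 h
    rw [hS]
    simp
  have hS1 : S = 1 + (S - 1) := by abel
  have h4 := one_add_pow_of_sq_zero (S - 1) h0 p
  rw [← hS1, hSp] at h4
  have h5 : (p : F) • (S - 1) = 0 := by
    have := h4
    rw [left_eq_add] at this
    exact this
  have hp0 : (p : F) = 0 := by
    rcases smul_eq_zero.1 h5 with h | h
    · exact h
    · exact absurd h hN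
  have hcop : IsCoprime (p : ℤ) (Fintype.card F : ℤ) :=
    Nat.isCoprime_iff_coprime.2 ((Nat.Prime.coprime_iff_not_dvd hp).2 hpq)
  obtain ⟨u, v, huv⟩ := hcop
  have h6 := congrArg (Int.cast : ℤ → F) huv
  push_cast at h6
  rw [hp0, Nat.cast_card_eq_zero, mul_zero, mul_zero, add_zero] at h6
  exact zero_ne_one h6

/-- a counting lemma: the image of a subgroup -/
theorem card_eq_card_map_mul {G H : Type*} [Group G] [Group H] (f : G →* H) (C : Subgroup G) :
    Nat.card C = Nat.card (C.map f) * Nat.card ↥(C ⊓ f.ker) := by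
  have e1 := Subgroup.card_eq_card_quotient_mul_card_subgroup (f.domRestrict C).ker
  have e2 : Nat.card (↥C ⧸ (f.domRestrict C).ker) = Nat.card (C.map f) := by
    rw [← MonoidHom.domRestrict_range]
    exact Nat.card_congr (QuotientGroup.quotientKerEquivRange _).toEquiv
  have e3 : Nat.card (f.domRestrict C).ker = Nat.card ↥(C ⊓ f.ker) := by
    rw [MonoidHom.ker_domRestrict, ← Subgroup.inf_subgroupOf_right, inf_comm]
    exact Nat.card_congr (Subgroup.subgroupOfEquivOfLe inf_le_left).toEquiv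
  rw [e1, e2, e3]

omit [Fintype F] in
/-- lifting an element of odd prime order -/
theorem exists_lift_of_orderOf (y : PSL2) (p : ℕ) (hp : p.Prime) (hp2 : p ≠ 2)
    (hy : orderOf y = p) :
    ∃ s : SL2, QuotientGroup.mk' (Subgroup.center SL2) s = y ∧ s ^ p = 1 ∧
      s ∉ Subgroup.center SL2 := by
  obtain ⟨s₀, hs₀⟩ := QuotientGroup.mk'_surjective (Subgroup.center SL2) y
  obtain ⟨k, hk⟩ : ∃ k, p = 2 * k + 1 := by
    rcases hp.eq_two_or_odd with h | h
    · exact absurd h hp2
    · exact ⟨p / 2, by omega⟩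
  have hyp : y ^ p = 1 := by rw [← hy]; exact pow_orderOf_eq_one y
  have hc : s₀ ^ p ∈ Subgroup.center SL2 := by
    rw [← QuotientGroup.ker_mk' (Subgroup.center SL2), MonoidHom.mem_ker, map_pow, hs₀, hyp]
  have hc2 := sq_eq_one_of_mem_center _ hc
  have hmk : QuotientGroup.mk' (Subgroup.center SL2) (s₀ ^ (p + 1)) = y := by
    rw [map_pow, hs₀, pow_succ, hyp, one_mul]
  refine ⟨s₀ ^ (p + 1), hmk, ?_, ?_⟩
  · rw [← pow_mul, mul_comm, pow_mul]
    have : p + 1 = 2 * (k + 1) := by omega
    rw [this, pow_mul, hc2, one_pow]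
  · intro h
    have h1 : y = 1 := by
      rw [← hmk]
      rw [← QuotientGroup.ker_mk' (Subgroup.center SL2), MonoidHom.mem_ker] at h
      exact h
    rw [h1, orderOf_one] at hy
    exact hp.one_lt.ne hy

omit [Fintype F] in
/-- the centraliser of the image of an element of odd order is the image of the centraliser -/
theorem centralizer_mk_eq_map (s : SL2) (p : ℕ) (hp : p.Prime) (hp2 : p ≠ 2) (hsp : s ^ p = 1) :
    Subgroup.centralizer {QuotientGroup.mk' (Subgroup.center SL2) s} =
      (Subgroup.centralizer {s}).map (QuotientGroup.mk' (Subgroup.center SL2)) := by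
  obtain ⟨k, hk⟩ : ∃ k, p = 2 * k + 1 := by
    rcases hp.eq_two_or_odd with h | h
    · exact absurd h hp2
    · exact ⟨p / 2, by omega⟩
  apply le_antisymm
  · intro xb hxb
    obtain ⟨x, rfl⟩ := QuotientGroup.mk'_surjective (Subgroup.center SL2) xb
    rw [Subgroup.mem_centralizer_singleton_iff] at hxb
    refine ⟨x, ?_, rfl⟩
    rw [SetLike.mem_coe, Subgroup.mem_centralizer_singleton_iff]
    obtain ⟨z, hzdef⟩ : ∃ z, z = x * s * x⁻¹ * s⁻¹ := ⟨_, rfl⟩
    have hz : z ∈ Subgroup.center SL2 := by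
      rw [← QuotientGroup.ker_mk' (Subgroup.center SL2), MonoidHom.mem_ker, hzdef, map_mul, map_mul,
        map_mul, map_inv, map_inv, hxb]
      group
    have hz2 := sq_eq_one_of_mem_center _ hz
    have hxs : x * s * x⁻¹ = z * s := by rw [hzdef]; group
    have h1 : (x * s * x⁻¹) ^ p = 1 := by
      rw [conj_pow, hsp, mul_one, mul_inv_cancel]
    have hcomm : Commute z s := by
      have := Subgroup.mem_center_iff.1 hz s
      exact this.symm
    rw [hxs, hcomm.mul_pow, hsp, mul_one] at h1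
    have hz1 : z = 1 := by
      rw [hk, pow_succ, pow_mul, hz2, one_pow, one_mul] at h1
      exact h1
    rw [hz1, one_mul] at hxs
    calc x * s = x * s * x⁻¹ * x := by group
      _ = s * x := by rw [hxs]
  · rintro _ ⟨x, hx, rfl⟩
    rw [SetLike.mem_coe, Subgroup.mem_centralizer_singleton_iff] at hx
    rw [Subgroup.mem_centralizer_singleton_iff]
    rw [← map_mul, ← map_mul, hx]

/-- the centraliser in `PSL₂(q)` of an element of odd prime order not dividing `q (q - 1)` -/
theorem centralizer_PSL_of_prime (hodd : Fintype.card F % 2 = 1) (y : PSL2) (p : ℕ) (hp : p.Prime)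
    (hp2 : p ≠ 2) (hpq : ¬ p ∣ Fintype.card F) (hpq1 : ¬ p ∣ Fintype.card F - 1)
    (hy : orderOf y = p) :
    Nat.card ↥(Subgroup.centralizer {y}) * 2 = Fintype.card F + 1 ∧
      ∀ x ∈ Subgroup.centralizer {y}, ∀ x' ∈ Subgroup.centralizer {y}, x * x' = x' * x := by
  obtain ⟨s, hs, hsp, hsc⟩ := exists_lift_of_orderOf y p hp hp2 hy
  have hno := no_root_of_pow_eq_one s hsc p hp hpq hpq1 hsp
  have hcent := centralizer_mk_eq_map s p hp hp2 hsp
  rw [hs] at hcent
  constructor
  · have h1 := card_eq_card_map_mul (QuotientGroup.mk' (Subgroup.center SL2)) (Subgroup.centralizer {s})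
    rw [← hcent, card_centralizer_SL s hno hodd, QuotientGroup.ker_mk'] at h1
    have hle : Subgroup.center SL2 ≤ Subgroup.centralizer {s} := by
      intro z hz
      rw [Subgroup.mem_centralizer_singleton_iff]
      exact (Subgroup.mem_center_iff.1 hz s).symm
    rw [inf_eq_right.2 hle, Cfsg.Agent.Lib.Helper4.card_center_SL 2 (by norm_num)] at h1
    have hg : Nat.gcd 2 (Fintype.card F - 1) = 2 := by
      apply Nat.gcd_eq_left
      omega
    rw [hg] at h1
    exact h1.symm
  · rw [hcent]
    rintro _ ⟨x, hx, rfl⟩ _ ⟨x', hx', rfl⟩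
    rw [← map_mul, ← map_mul, centralizer_SL_comm s hno x x' hx hx']

end finite

end Cfsg.Agent.Lib.Helper5.PSL2Cent
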